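import Cfsg.Agent.Lib.Goldschmidt.General.Setup
import Cfsg.Agent.Lib.Components.HatLayer
import Cfsg.Agent.Lib.Components.KBalance
import Cfsg.Agent.Lib.Signalizer.PAction

/-!
# The layer of a block (owner: helper87; section Layers of `GENERAL.md`)

`C_P` is the sum of the other blocks and `L_P = ⟨P ^ C(C_P)⟩`.  For `e` in `C_P` exactly one moved
component of `Bar e` is centralised by `C_P`, the top one `M_P(e)`.  When the signalizers of the
subgroups of order `2 ^ k` are trivial, `L_P` maps one-to-one onto all of them, and an element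
centralising a subgroup `E` of `C_P` of order at least `2 ^ k` and fixing each `M_P(e)`, `e` in `E`,
normalises `L_P`.

* `Top`, `blockLayer`, `pre`
* `Hyp.unique` : the only moved component centralised by `C_P`
* `Hyp.conj_top` : who fixes `M_P(e)`
* `Hyp.covers`, `Hyp.inf_core` : `L_P` and `M_P(e)`
* `Hyp.mem_normalizer_layer` : who normalises `L_P`
-/

set_option autoImplicit false
set_option linter.unusedSectionVars false
set_option linter.style.haveILetI false

namespace Cfsg.Agent.Goldschmidt.General.Layers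

open Cfsg Subgroup

universe u

variable {G : Type u} [Group G]

/-- The preimage in `G` of a subgroup of `Bar e`. -/
abbrev pre (e : G) (M : Subgroup (Bar e)) : Subgroup G :=
  (M.comap (proj e)).map (centralizer ({e} : Set G)).subtype

theorem mem_pre {e : G} {M : Subgroup (Bar e)} {x : G} :
    x ∈ pre e M ↔ ∃ hx : x ∈ centralizer ({e} : Set G), proj e ⟨x, hx⟩ ∈ M :=
  ⟨fun ⟨y, hy, hyx⟩ => by subst hyx; exact ⟨y.2, hy⟩, fun ⟨hx, h⟩ => ⟨⟨x, hx⟩, h, rfl⟩⟩

theorem mem_core {e x : G} : x ∈ centralizerPPrimeCore 2 e ↔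
    ∃ hx : x ∈ centralizer ({e} : Set G), proj e ⟨x, hx⟩ = 1 :=
  ⟨fun ⟨y, hy, hyx⟩ => by subst hyx; exact ⟨y.2, (QuotientGroup.eq_one_iff _).2 hy⟩,
    fun ⟨hx, h⟩ => ⟨⟨x, hx⟩, (QuotientGroup.eq_one_iff _).1 h, rfl⟩⟩

/-- The top component of a block at a member of the other blocks. -/
structure Top (A : Subgroup G) (Ps : Set (Subgroup G)) (P : Subgroup G) (e : G)
    (M : Subgroup (Bar e)) : Prop where
  moved : MovedAt A e M (Nat.card ↥P)
  fixer_eq : fixerAt A e M = coBlock Ps P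
  part_eq : partAt A e M = P

/-- The layer of a block. -/
def blockLayer (Ps : Set (Subgroup G)) (P : Subgroup G) : Subgroup G :=
  Subgroup.closure {y | ∃ w ∈ centralizer (coBlock Ps P : Set G), ∃ p ∈ P, w * p * w⁻¹ = y}

/-- The hypotheses of the step. -/
structure Hyp [Finite G] (S : Sylow 2 G) (A : Subgroup G) (k : ℕ) (Ps : Set (Subgroup G)) : Prop where
  ctx : Ctx G S A
  loc : LocalsHold A
  frame : Frame A k Ps
  delta : DeltaTrivial A k

theorem conjMap_fixed {X : Type*} [Group X] [Finite X] {K : Subgroup X} {g : X}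
    (h : K.map (MulAut.conj g).toMonoidHom = K) {x : X} : x ∈ K ↔ g * x * g⁻¹ ∈ K := by
  refine ⟨fun hx => h.le ⟨x, hx, rfl⟩, fun hx => ?_⟩
  obtain ⟨y, hy, hye⟩ := h.ge hx
  exact (mul_left_cancel (mul_right_cancel hye) : y = x) ▸ hy

variable [Finite G] {S : Sylow 2 G} {A : Subgroup G} {k : ℕ} {Ps : Set (Subgroup G)}
  (H : Hyp S A k Ps)
include H

theorem Hyp.co_le (P : Subgroup G) : coBlock Ps P ≤ A :=
  iSup₂_le fun R hR => (H.frame.le R hR.1).1

theorem Hyp.le_co {P R : Subgroup G} (hR : R ∈ Ps) (hne : R ≠ P) : R ≤ coBlock Ps P :=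
  le_iSup₂ (f := fun R (_ : R ∈ Ps \ {P}) => R) R ⟨hR, hne⟩

theorem Hyp.not_le_co {P : Subgroup G} (hP : P ∈ Ps) : ¬ P ≤ coBlock Ps P := fun h =>
  (H.frame.le P hP).2 (le_bot_iff.1 ((H.frame.indep P hP) ▸ le_inf le_rfl h))

/-- Different blocks have different complements. -/
theorem Hyp.not_co_le_co {P R : Subgroup G} (hR : R ∈ Ps) (hne : R ≠ P) :
    ¬ coBlock Ps P ≤ coBlock Ps R := fun h =>
  H.not_le_co hR ((H.le_co hR hne).trans h)

/-- A product decomposition in `A`. -/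
theorem Hyp.exists_mul {X Y : Subgroup G} (hX : X ≤ A) (hY : Y ≤ A) {z : G} (hz : z ∈ X ⊔ Y) :
    ∃ x ∈ X, ∃ y ∈ Y, x * y = z := by
  have hn : X ≤ normalizer (Y : Set G) := fun x hx =>
    centralizer_le_normalizer _ (mem_centralizer_iff.2 fun y hy => H.ctx.comm (hY hy) (hX hx))
  rw [← SetLike.mem_coe, coe_mul_of_left_le_normalizer_right X Y hn] at hz
  obtain ⟨x, hx, y, hy, e⟩ := hz
  exact ⟨x, hx, y, hy, e⟩

theorem Hyp.card_sup {X Y : Subgroup G} (hX : X ≤ A) (hY : Y ≤ A) (h : X ⊓ Y = ⊥) :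
    Nat.card ↥(X ⊔ Y : Subgroup G) = Nat.card ↥X * Nat.card ↥Y := by
  rw [← Nat.card_prod]
  refine (Nat.card_congr (Equiv.ofBijective
    (fun p : ↥X × ↥Y => (⟨p.1 * p.2, mul_mem (mem_sup_left p.1.2) (mem_sup_right p.2.2)⟩ :
      ↥(X ⊔ Y : Subgroup G))) ⟨?_, ?_⟩)).symm
  · rintro ⟨x, y⟩ ⟨x', y'⟩ e
    have e' : (x : G) * y = x' * y' := congrArg Subtype.val e
    have h1 : (x' : G)⁻¹ * x = y' * (y : G)⁻¹ := by
      rw [eq_mul_inv_iff_mul_eq, mul_assoc, e', inv_mul_cancel_left]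
    have h2 : (x' : G)⁻¹ * x = 1 := (eq_bot_iff.1 h)
      ⟨X.mul_mem (X.inv_mem x'.2) x.2, h1 ▸ Y.mul_mem y'.2 (Y.inv_mem y.2)⟩
    have hx : x = x' := Subtype.ext (inv_mul_eq_one.1 h2).symm
    subst hx
    rw [Subtype.ext (mul_left_cancel e')]
  · rintro ⟨z, hz⟩
    obtain ⟨x, hx, y, hy, e⟩ := H.exists_mul hX hY hz
    exact ⟨(⟨x, hx⟩, ⟨y, hy⟩), Subtype.ext e⟩

theorem Hyp.card_eq {P : Subgroup G} (hP : P ∈ Ps) :
    Nat.card ↥A = Nat.card ↥P * Nat.card ↥(coBlock Ps P) := by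
  rw [← H.card_sup (H.frame.le P hP).1 (H.co_le P) (H.frame.indep P hP), H.frame.sup P hP]

/-- The common part of two complements. -/
theorem Hyp.card_co_inf {P R : Subgroup G} (hR : R ∈ Ps) (hne : R ≠ P) :
    Nat.card ↥R * Nat.card ↥(coBlock Ps P ⊓ coBlock Ps R : Subgroup G) =
      Nat.card ↥(coBlock Ps P) := by
  rw [← H.card_sup (H.frame.le R hR).1 (inf_le_left.trans (H.co_le P))
    (le_bot_iff.1 ((H.frame.indep R hR) ▸ inf_le_inf_left _ inf_le_right))]
  congr 2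
  refine le_antisymm (sup_le (H.le_co hR hne) inf_le_left) fun z hz => ?_
  obtain ⟨x, hx, y, hy, rfl⟩ := H.exists_mul (H.frame.le R hR).1 (H.co_le R)
    ((H.frame.sup R hR).ge (H.co_le P hz))
  refine mul_mem (mem_sup_left hx) (mem_sup_right ⟨?_, hy⟩)
  rw [show y = x⁻¹ * (x * y) by rw [inv_mul_cancel_left]]
  exact (coBlock Ps P).mul_mem ((coBlock Ps P).inv_mem (H.le_co hR hne hx)) hz

/-- The part of a moved component is not centralised by the component. -/
theorem Hyp.eq_one_of_part {a : G} {K : Subgroup (Bar a)} {q : ℕ} (hK : MovedAt A a K q)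
    {x : Bar a} (h1 : x ∈ K) (h2 : x ∈ centralizer (K : Set (Bar a))) : x = 1 := by
  have hc := (H.frame.kind a K q hK).1
  have h3 : (⟨x, h1⟩ : ↥K) ∈ Subgroup.center ↥K := mem_center_iff.2 fun y =>
    Subtype.ext (mem_centralizer_iff.1 h2 y y.2)
  rw [hc, mem_bot] at h3
  exact congrArg Subtype.val h3

theorem Hyp.exists_top {P : Subgroup G} (hP : P ∈ Ps) {e : G} (he : e ∈ coBlock Ps P) (he1 : e ≠ 1) :
    ∃ M : Subgroup (Bar e), Top A Ps P e M ∧
      (k = 1 ∨ SmallFacts (↥M ⧸ Subgroup.center ↥M) (Nat.card ↥P)) := by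
  obtain ⟨M, h1, h2, h3, h4⟩ := H.frame.everywhere P hP e he he1
  exact ⟨M, ⟨h1, h2, h3⟩, h4⟩

/-- Elements of `A` over `C_P` centralise the top component. -/
theorem Hyp.proj_mem_centralizer {a x : G} {K : Subgroup (Bar a)} (ha : a ∈ A)
    (hx : x ∈ fixerAt A a K) :
    proj a ⟨x, H.ctx.le_centralizer_of_mem ha hx.1⟩ ∈ centralizer (K : Set (Bar a)) :=
  (H.ctx.mem_pull ha hx.1).1 hx

/-- Exactly one moved component at `e` is centralised by `C_P`. -/
theorem Hyp.unique {P : Subgroup G} {e : G} {M : Subgroup (Bar e)} (hM : Top A Ps P e M)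
    {M' : Subgroup (Bar e)} (hM' : Moved (bar A e) M') (hfix : coBlock Ps P ≤ fixerAt A e M') :
    M' = M := by
  by_contra hne
  have ha := hM.moved.mem
  obtain ⟨q, hq⟩ := (H.loc e ha hM.moved.ne).data M' hM'
  have hK : MovedAt A e M' q := ⟨ha, hM.moved.ne, hM', hq⟩
  have hc : M' ≤ centralizer (M : Set (Bar e)) :=
    commutator_eq_bot_iff_le_centralizer.1
      (Components.IsComponent.commutator_eq_bot hM'.1 hM.moved.moved.1 hne)
  have hbot : ∀ y ∈ bar A e ⊓ M', y = 1 := by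
    rintro _ ⟨⟨x, hx, rfl⟩, hy⟩
    have hxA : (x : G) ∈ A := mem_subgroupOf.1 hx
    have h1 : (x : G) ∈ fixerAt A e M := (H.ctx.mem_pull ha hxA).2 (hc hy)
    rw [hM.fixer_eq] at h1
    exact H.eq_one_of_part hK hy (H.proj_mem_centralizer ha (hfix h1))
  refine hM'.2 fun m hm => mem_centralizer_iff.2 fun y hy => ?_
  have h2 : bar A e ≤ centralizer (M' : Set (Bar e)) := by
    rw [← hq.sup, (Subgroup.eq_bot_iff_forall _).2 hbot, bot_sup_eq]
    exact inf_le_right
  exact (mem_centralizer_iff.1 (h2 hy) m hm).symm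

theorem Hyp.fixer_conj {e x : G} (ha : e ∈ A) (hx : x ∈ centralizer ({e} : Set G))
    {M : Subgroup (Bar e)} {z : G} (hz : z ∈ fixerAt A e M) (hzx : Commute z x) :
    z ∈ fixerAt A e (M.map (MulAut.conj (proj e ⟨x, hx⟩)).toMonoidHom) := by
  have h1 := H.proj_mem_centralizer ha hz
  have hc : Commute (proj e ⟨z, H.ctx.le_centralizer_of_mem ha hz.1⟩) (proj e ⟨x, hx⟩) :=
    (show Commute (⟨z, H.ctx.le_centralizer_of_mem ha hz.1⟩ : ↥(centralizer ({e} : Set G))) ⟨x, hx⟩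
      from Subtype.ext hzx.eq).map (proj e)
  refine (H.ctx.mem_pull ha hz.1).2 (mem_centralizer_iff.2 ?_)
  rintro _ ⟨m, hm, rfl⟩
  have hm' : Commute (proj e ⟨z, H.ctx.le_centralizer_of_mem ha hz.1⟩) m :=
    (mem_centralizer_iff.1 h1 m hm).symm
  exact ((hc.mul_right hm').mul_right hc.inv_right).eq.symm

/-- The parameter is invariant under conjugation. -/
theorem Hyp.param_eq {e : G} {y : Bar e} {M : Subgroup (Bar e)} {q q' : ℕ} (hM : MovedAt A e M q)
    (hM' : MovedAt A e (M.map (MulAut.conj y).toMonoidHom) q') : q' = q := by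
  haveI : Fact (Nat.Prime 2) := ⟨Nat.prime_two⟩
  set M' := M.map (MulAut.conj y).toMonoidHom
  have card_centre : ∀ {L : Type u} [Group L] {r : ℕ}, (RankFacts L r ∨ SmallFacts L r) →
      ∀ Q : Sylow 2 L, Nat.card ↥(centre (Q : Subgroup L)) = r := by
    intro L _ r h Q
    rcases h with h | h
    · exact h.card_centre Q
    · obtain ⟨hel, hcard⟩ := h.sylow Q
      rw [show centre (Q : Subgroup L) = (Q : Subgroup L) from inf_of_le_left fun x hx =>
        mem_centralizer_iff.2 fun z hz =>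
          congrArg Subtype.val (hel.1.is_comm.comm ⟨z, hz⟩ ⟨x, hx⟩), hcard]
  let f₀ : ↥M ≃* ↥M' := M.equivMapOfInjective _ (MulAut.conj y).injective
  let f : (↥M ⧸ Subgroup.center ↥M) ≃* (↥M' ⧸ Subgroup.center ↥M') :=
    QuotientGroup.congr _ _ f₀ (by
      rw [(H.frame.kind e M q hM).1, (H.frame.kind e M' q' hM').1, Subgroup.map_bot])
  obtain ⟨Q⟩ : Nonempty (Sylow 2 (↥M ⧸ Subgroup.center ↥M)) := inferInstance
  have h1 := card_centre hM.data.shape Q
  have h2 := card_centre hM'.data.shape (Q.mapSurjective (f := f.toMonoidHom) f.surjective)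
  rw [← h1, ← h2]
  show Nat.card ↥(centre ((Q : Subgroup _).map f.toMonoidHom)) = _
  refine (Nat.card_congr (Equiv.subtypeEquiv f.toEquiv fun z => ?_)).symm
  simp only [centre, mem_inf, mem_centralizer_iff, SetLike.mem_coe]
  constructor
  · rintro ⟨hz, hc⟩
    refine ⟨⟨z, hz, rfl⟩, ?_⟩
    rintro _ ⟨w, hw, rfl⟩
    show f w * f z = f z * f w
    rw [← map_mul, ← map_mul, hc w hw]
  · rintro ⟨⟨z', hz', hze⟩, hc⟩
    obtain rfl : z' = z := f.injective hze
    refine ⟨hz', fun w hw => f.injective ?_⟩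
    rw [map_mul, map_mul]
    exact hc (f w) ⟨w, hw, rfl⟩

/-- An element centralising `E ≤ C_P` fixes the top component at a member of `E`, if it centralises
the other complements containing `E`. -/
theorem Hyp.conj_top {P : Subgroup G} (hP : P ∈ Ps) {E : Subgroup G} (hE : E ≤ coBlock Ps P)
    {x : G} (hxE : x ∈ centralizer (E : Set G))
    (hR : ∀ R ∈ Ps, R ≠ P → E ≤ coBlock Ps R → x ∈ centralizer (coBlock Ps R : Set G))
    {e : G} (he : e ∈ E) {M : Subgroup (Bar e)} (hM : Top A Ps P e M)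
    (hx : x ∈ centralizer ({e} : Set G)) :
    M.map (MulAut.conj (proj e ⟨x, hx⟩)).toMonoidHom = M := by
  have ha := hM.moved.mem
  have he1 := hM.moved.ne
  set y := proj e ⟨x, hx⟩
  set M' := M.map (MulAut.conj y).toMonoidHom with hM'def
  have hmov : Moved (bar A e) M' := (H.loc e ha he1).conj M hM.moved.moved y
  obtain ⟨q, hq⟩ := (H.loc e ha he1).data M' hmov
  have hK : MovedAt A e M' q := ⟨ha, he1, hmov, hq⟩
  have hEfix : E ≤ fixerAt A e M' := fun z hz =>
    H.fixer_conj ha hx (hM.fixer_eq.ge (hE hz)) (mem_centralizer_iff.1 hxE z hz)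
  obtain ⟨-, -, -, R, hRPs, hRfix⟩ := H.frame.kind e M' q hK
  by_cases hRP : R = P
  · exact H.unique hM hmov (hRP ▸ hRfix)
  -- the fixer is the complement of `R`
  have hfix : fixerAt A e M' = coBlock Ps R := by
    refine (eq_of_le_of_card_ge hRfix (le_of_eq ?_)).symm
    have h1 := H.ctx.card_pull ha (centralizer (M' : Set (Bar e)))
    have h2 : Nat.card ↥A = Nat.card ↥(bar A e) := by
      have h3 := H.ctx.card_pull ha (⊤ : Subgroup (Bar e))
      rw [inf_top_eq] at h3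
      rw [← h3]
      congr 2
      refine le_antisymm (fun z hz => ?_) inf_le_left
      exact (H.ctx.mem_pull ha hz).2 (mem_top _)
    have h4 := hq.card
    rw [H.param_eq hM.moved hK, ← h2, H.frame.same P hP R hRPs, H.card_eq hRPs] at h4
    rw [show fixerAt A e M' = pull A e (centralizer (M' : Set (Bar e))) from rfl, h1]
    exact (Nat.eq_of_mul_eq_mul_left Nat.card_pos h4).symm
  exfalso
  have hxR := hR R hRPs hRP (hfix ▸ hEfix)
  have heR : e ∈ coBlock Ps R := hfix ▸ hEfix he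
  obtain ⟨MR, hMR, -⟩ := H.exists_top hRPs heR he1
  obtain rfl : M' = MR := H.unique hMR hmov hfix.ge
  -- `x` fixes the top component of `R`
  have h5 : M'.map (MulAut.conj y).toMonoidHom = M' := by
    refine H.unique hMR ((H.loc e ha he1).conj M' hmov y) fun z hz => ?_
    exact H.fixer_conj ha hx (hMR.fixer_eq.ge hz) (mem_centralizer_iff.1 hxR z hz)
  have h6 : M' = M := Subgroup.map_injective (f := (MulAut.conj y).toMonoidHom)
    (MulAut.conj y).injective h5
  have h7 : coBlock Ps R = coBlock Ps P := by rw [← hMR.fixer_eq, h6, hM.fixer_eq]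
  exact H.not_co_le_co hRPs hRP h7.ge

/-- Elements of `A` centralising a component lift to elements centralising them. -/
theorem Hyp.exists_lift {a : G} (ha : a ∈ A) {K : Subgroup (Bar a)} {B : Subgroup G}
    (hB : B ≤ fixerAt A a K) {m : Bar a} (hm : m ∈ K) :
    ∃ y ∈ centralizer (B : Set G), ∃ hy : y ∈ centralizer ({a} : Set G), proj a ⟨y, hy⟩ = m := by
  haveI : Fact (Nat.Prime 2) := ⟨Nat.prime_two⟩
  set X := centralizer ({a} : Set G)
  have hBX : B ≤ X := (hB.trans inf_le_left).trans (H.ctx.le_centralizer_of_mem ha)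
  have hR : IsPGroup 2 ↥(B.subgroupOf X) :=
    (H.ctx.two.to_le (hB.trans inf_le_left)).comap_of_injective X.subtype X.subtype_injective
  have h1 : m ∈ centralizer (((B.subgroupOf X).map (proj a) : Subgroup (Bar a)) : Set (Bar a)) := by
    refine mem_centralizer_iff.2 ?_
    rintro _ ⟨b, hb, rfl⟩
    exact (mem_centralizer_iff.1 (H.proj_mem_centralizer ha (hB (mem_subgroupOf.1 hb))) m hm).symm
  rw [Components.centralizer_map_of_coprime hR _ (Cores.coprime_card_pPrimeCore 2)] at h1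
  obtain ⟨y, hy, rfl⟩ := h1
  exact ⟨y, mem_centralizer_iff.2 fun b hb =>
    congrArg Subtype.val (mem_centralizer_iff.1 hy ⟨b, hBX hb⟩ (mem_subgroupOf.2 hb)), y.2, rfl⟩

theorem Hyp.mem_centralizer_co {P : Subgroup G} {p : G} (hp : p ∈ P) (hP : P ∈ Ps) :
    p ∈ centralizer (coBlock Ps P : Set G) :=
  mem_centralizer_iff.2 fun z hz => H.ctx.comm (H.co_le P hz) ((H.frame.le P hP).1 hp)

theorem Hyp.le_layer (P : Subgroup G) : P ≤ blockLayer Ps P := fun p hp =>
  Subgroup.subset_closure ⟨1, one_mem _, p, hp, by group⟩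

theorem Hyp.layer_le {P : Subgroup G} (hP : P ∈ Ps) :
    blockLayer Ps P ≤ centralizer (coBlock Ps P : Set G) := (Subgroup.closure_le _).2 (by
  rintro _ ⟨w, hw, p, hp, rfl⟩
  exact mul_mem (mul_mem hw (H.mem_centralizer_co hp hP)) (inv_mem hw))

theorem Hyp.co_le_normalizer_layer (P : Subgroup G) :
    centralizer (coBlock Ps P : Set G) ≤ normalizer (blockLayer Ps P : Set G) := by
  refine fun w hw => Coprime.mem_normalizer_of_forall fun z hz => ?_
  have h1 : blockLayer Ps P ≤ (blockLayer Ps P).comap (MulAut.conj w).toMonoidHom :=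
    (Subgroup.closure_le _).2 (by
      rintro _ ⟨w', hw', p, hp, rfl⟩
      exact Subgroup.subset_closure ⟨w * w', mul_mem hw hw', p, hp, by
        simp only [MulEquiv.coe_toMonoidHom, MulAut.conj_apply]; group⟩)
  exact h1 hz

/-- An element of `C(C_P)` fixes the top component. -/
theorem Hyp.conj_top_self {P : Subgroup G} {e : G} {M : Subgroup (Bar e)} (hM : Top A Ps P e M)
    {x : G} (hxP : x ∈ centralizer (coBlock Ps P : Set G)) (hx : x ∈ centralizer ({e} : Set G)) :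
    M.map (MulAut.conj (proj e ⟨x, hx⟩)).toMonoidHom = M :=
  H.unique hM ((H.loc e hM.moved.mem hM.moved.ne).conj M hM.moved.moved _) fun z hz =>
    H.fixer_conj hM.moved.mem hx (hM.fixer_eq.ge hz) (mem_centralizer_iff.1 hxP z hz)

/-- `L_P` maps into the top component. -/
theorem Hyp.layer_le_pre {P : Subgroup G} {e : G} (he : e ∈ coBlock Ps P) {M : Subgroup (Bar e)}
    (hM : Top A Ps P e M) : blockLayer Ps P ≤ pre e M := (Subgroup.closure_le _).2 (by
  rintro _ ⟨w, hw, p, hp, rfl⟩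
  have hwe : w ∈ centralizer ({e} : Set G) :=
    mem_centralizer_singleton_iff.2 (mem_centralizer_iff.1 hw e he).symm
  obtain ⟨hpe, hpM⟩ := mem_pre.1 ((hM.part_eq.ge hp).2 : p ∈ pre e M)
  refine mem_pre.2 ⟨mul_mem (mul_mem hwe hpe) (inv_mem hwe), ?_⟩
  have h1 := (conjMap_fixed (H.conj_top_self hM hw hwe)).1 hpM
  rwa [← map_inv, ← map_mul, ← map_mul] at h1)

theorem Hyp.simple_top {P : Subgroup G} {e : G} {M : Subgroup (Bar e)} (hM : Top A Ps P e M) :
    IsSimpleGroup ↥M := by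
  have h1 := hM.moved.moved.1.2.2
  exact MulEquiv.isSimpleGroup ((QuotientGroup.quotientMulEquivOfEq (H.frame.kind e M _ hM.moved).1).trans
    QuotientGroup.quotientBot).symm

/-- A block maps one-to-one. -/
theorem Hyp.proj_ne_one {a p : G} (ha : a ∈ A) (hpA : p ∈ A) (hp : p ≠ 1) :
    proj a ⟨p, H.ctx.le_centralizer_of_mem ha hpA⟩ ≠ 1 := fun h =>
  hp (H.ctx.eq_one_of_proj ha hpA h)

/-- `L_P` maps onto the top component. -/
theorem Hyp.covers {P : Subgroup G} (hP : P ∈ Ps) {e : G} (he : e ∈ coBlock Ps P)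
    {M : Subgroup (Bar e)} (hM : Top A Ps P e M) {m : Bar e} (hm : m ∈ M) :
    ∃ y ∈ blockLayer Ps P, ∃ hy : y ∈ centralizer ({e} : Set G), proj e ⟨y, hy⟩ = m := by
  haveI := H.simple_top hM
  set X := centralizer ({e} : Set G)
  set N : Subgroup ↥M := (((blockLayer Ps P).subgroupOf X).map (proj e)).subgroupOf M with hN
  haveI : N.Normal := by
    refine ⟨fun n hn g => ?_⟩
    obtain ⟨y, hy, hye⟩ := hn
    obtain ⟨w, hw, hwe, hwm⟩ := H.exists_lift hM.moved.mem hM.fixer_eq.ge g.2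
    refine ⟨⟨w, hwe⟩ * y * ⟨w, hwe⟩⁻¹, ?_, ?_⟩
    · exact mem_subgroupOf.2 ((mem_normalizer_iff.1 (H.co_le_normalizer_layer P hw) _).1 hy)
    · rw [map_mul, map_mul, map_inv, hye, hwm]
      rfl
  obtain ⟨p, hp, hp1⟩ := (Subgroup.bot_or_exists_ne_one P).resolve_left (H.frame.le P hP).2
  obtain ⟨hpe, hpM⟩ := mem_pre.1 ((hM.part_eq.ge hp).2 : p ∈ pre e M)
  have hne : N ≠ ⊥ := fun h0 => by
    have h1 : (⟨proj e ⟨p, hpe⟩, hpM⟩ : ↥M) ∈ N :=
      mem_subgroupOf.2 ⟨⟨p, hpe⟩, mem_subgroupOf.2 (H.le_layer P hp), rfl⟩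
    rw [h0, mem_bot] at h1
    exact H.proj_ne_one hM.moved.mem ((H.frame.le P hP).1 hp) hp1 (congrArg Subtype.val h1)
  have htop := (inferInstance : N.Normal).eq_bot_or_eq_top.resolve_left hne
  obtain ⟨y, hy, hye⟩ := (htop ▸ mem_top (⟨m, hm⟩ : ↥M) : (⟨m, hm⟩ : ↥M) ∈ N)
  exact ⟨y, mem_subgroupOf.1 hy, y.2, hye⟩

/-- A subgroup of `C(E)` between `L_P` and the preimages of its components meets the cores trivially. -/
theorem Hyp.inf_core {P : Subgroup G} (hP : P ∈ Ps) {E : Subgroup G} (hE : E ≤ coBlock Ps P)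
    (hEk : 2 ^ k ≤ Nat.card ↥E) {Y : Subgroup G} (hLY : blockLayer Ps P ≤ Y)
    (hYE : Y ≤ centralizer (E : Set G))
    (hY : ∀ e ∈ E, e ≠ 1 → ∀ M : Subgroup (Bar e), Top A Ps P e M → Y ≤ pre e M)
    {e : G} (he : e ∈ E) : Y ⊓ centralizerPPrimeCore 2 e = ⊥ := by
  haveI : Fact (Nat.Prime 2) := ⟨Nat.prime_two⟩
  set K := Y ⊓ centralizerPPrimeCore 2 e with hK
  have hodd : Odd (Nat.card ↥K) :=
    (Nat.coprime_two_right.1 (Components.coprime_card_centralizerPPrimeCore (p := 2) e)).of_dvd_nat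
      (Subgroup.card_dvd_of_le inf_le_right)
  have hnorm : Y ≤ normalizer (K : Set G) := fun y hy => Coprime.mem_normalizer_of_forall fun z hz =>
    ⟨Y.mul_mem (Y.mul_mem hy hz.1) (Y.inv_mem hy), (mem_normalizer_iff.1
      (Components.centralizer_le_normalizer_centralizerPPrimeCore (p := 2) e
        (mem_centralizer_singleton_iff.2 (mem_centralizer_iff.1 (hYE hy) e he).symm)) z).1 hz.2⟩
  have hle : ∀ f ∈ E, f ≠ 1 → K ≤ centralizerPPrimeCore 2 f := by
    intro f hf hf1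
    obtain ⟨M, hM, -⟩ := H.exists_top hP (hE hf) hf1
    haveI := H.simple_top hM
    set X := centralizer ({f} : Set G)
    have hKX : K ≤ X := fun z hz =>
      mem_centralizer_singleton_iff.2 (mem_centralizer_iff.1 (hYE hz.1) f hf).symm
    set N : Subgroup ↥M := ((K.subgroupOf X).map (proj f)).subgroupOf M
    haveI : N.Normal := by
      refine ⟨fun n hn g => ?_⟩
      obtain ⟨z, hz, hze⟩ := hn
      obtain ⟨y, hy, hyf, hym⟩ := H.covers hP (hE hf) hM g.2
      refine ⟨⟨y, hyf⟩ * z * ⟨y, hyf⟩⁻¹, ?_, ?_⟩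
      · exact mem_subgroupOf.2 ((mem_normalizer_iff.1 (hnorm (hLY hy)) _).1 hz)
      · rw [map_mul, map_mul, map_inv, hze, hym]
        rfl
    have hNodd : Odd (Nat.card ↥N) := by
      refine hodd.of_dvd_nat ?_
      refine ((Subgroup.card_comap_dvd_of_injective _ M.subtype M.subtype_injective).trans
        (Subgroup.card_map_dvd _ _)).trans ?_
      exact dvd_of_eq (Nat.card_congr (subgroupOfEquivOfLe hKX).toEquiv)
    intro z hz
    refine mem_core.2 ⟨hKX hz, ?_⟩
    obtain ⟨hzf, hzM⟩ := mem_pre.1 (hY f hf hf1 M hM hz.1)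
    rcases (inferInstance : N.Normal).eq_bot_or_eq_top with hb | ht
    · have h1 : (⟨proj f ⟨z, hzf⟩, hzM⟩ : ↥M) ∈ N :=
        mem_subgroupOf.2 ⟨⟨z, hzf⟩, mem_subgroupOf.2 hz, rfl⟩
      rw [hb, mem_bot] at h1
      exact congrArg Subtype.val h1
    · exfalso
      rw [ht, Subgroup.card_top] at hNodd
      obtain ⟨p, hp, hp1⟩ := (Subgroup.bot_or_exists_ne_one P).resolve_left (H.frame.le P hP).2
      obtain ⟨hpf, hpM⟩ := mem_pre.1 ((hM.part_eq.ge hp).2 : p ∈ pre f M)
      have hpA := (H.frame.le P hP).1 hp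
      have h2 : orderOf (⟨proj f ⟨p, hpf⟩, hpM⟩ : ↥M) = 2 := orderOf_eq_prime
        (Subtype.ext (by
          show proj f ⟨p, hpf⟩ ^ 2 = 1
          rw [← map_pow, show (⟨p, hpf⟩ : ↥X) ^ 2 = 1 from
            Subtype.ext (by simpa [pow_two] using H.ctx.sq hpA), map_one]))
        (fun h => H.proj_ne_one hM.moved.mem hpA hp1 (congrArg Subtype.val h))
      have h3 := hNodd.of_dvd_nat (h2 ▸ orderOf_dvd_natCard (⟨proj f ⟨p, hpf⟩, hpM⟩ : ↥M))
      exact absurd h3 (by decide)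
  obtain ⟨D, hDE, hD⟩ := Sylow.exists_subgroup_le_card_pow_prime_of_le_card Nat.prime_two
    H.ctx.two (H := E.subgroupOf A) (n := k) (by
      rwa [Nat.card_congr (subgroupOfEquivOfLe (hE.trans (H.co_le P))).toEquiv])
  have hDle : D.map A.subtype ≤ E := by
    rintro _ ⟨d, hd, rfl⟩
    exact mem_subgroupOf.1 (hDE hd)
  have hdelta := H.delta (D.map A.subtype) (map_subtype_le D)
    (by rw [card_map_of_injective A.subtype_injective, hD])
  exact le_bot_iff.1 (hdelta ▸ le_iInf fun d => hle d.1 (hDle d.2.1) d.2.2)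

/-- `L_P` meets the cores at the members of `C_P` trivially. -/
theorem Hyp.eq_one_of_layer {P : Subgroup G} (hP : P ∈ Ps) {e : G} (he : e ∈ coBlock Ps P)
    {y : G} (hy : y ∈ blockLayer Ps P) (hye : y ∈ centralizer ({e} : Set G))
    (h : proj e ⟨y, hye⟩ = 1) : y = 1 := by
  have h1 := H.inf_core hP le_rfl
    (le_trans (Nat.pow_le_pow_right two_pos (Nat.le_succ k)) (H.frame.big P hP)) le_rfl (H.layer_le hP)
    (fun f hf _ M hM => H.layer_le_pre hf hM) he
  exact (Subgroup.eq_bot_iff_forall _).1 h1 y ⟨hy, mem_core.2 ⟨hye, h⟩⟩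

/-- Who normalises `L_P`. -/
theorem Hyp.mem_normalizer_layer {P : Subgroup G} (hP : P ∈ Ps) {E : Subgroup G}
    (hE : E ≤ coBlock Ps P) (hEk : 2 ^ k ≤ Nat.card ↥E) {x : G}
    (hxE : x ∈ centralizer (E : Set G))
    (hR : ∀ R ∈ Ps, R ≠ P → E ≤ coBlock Ps R → x ∈ centralizer (coBlock Ps R : Set G)) :
    x ∈ normalizer (blockLayer Ps P : Set G) := by
  set L := blockLayer Ps P
  set Y := L ⊔ L.map (MulAut.conj x).toMonoidHom
  have hLE : L ≤ centralizer (E : Set G) := (H.layer_le hP).trans (centralizer_le hE)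
  have hYE : Y ≤ centralizer (E : Set G) := sup_le hLE (by
    rintro _ ⟨l, hl, rfl⟩
    exact mul_mem (mul_mem hxE (hLE hl)) (inv_mem hxE))
  have hY : ∀ e ∈ E, e ≠ 1 → ∀ M : Subgroup (Bar e), Top A Ps P e M → Y ≤ pre e M := by
    intro e he _ M hM
    refine sup_le (H.layer_le_pre (hE he) hM) ?_
    rintro _ ⟨l, hl, rfl⟩
    obtain ⟨hle, hlM⟩ := mem_pre.1 (H.layer_le_pre (hE he) hM hl)
    have hxe : x ∈ centralizer ({e} : Set G) :=
      mem_centralizer_singleton_iff.2 (mem_centralizer_iff.1 hxE e he).symm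
    refine mem_pre.2 ⟨mul_mem (mul_mem hxe hle) (inv_mem hxe), ?_⟩
    have h1 := (conjMap_fixed (H.conj_top hP hE hxE hR he hM hxe)).1 hlM
    rwa [← map_inv, ← map_mul, ← map_mul] at h1
  obtain ⟨e, he, he1⟩ := (Subgroup.bot_or_exists_ne_one E).resolve_left fun hb => by
    rw [hb, Subgroup.card_bot] at hEk
    have := Nat.pow_le_pow_right (n := 2) two_pos H.frame.pos
    omega
  obtain ⟨M, hM, -⟩ := H.exists_top hP (hE he) he1
  refine Coprime.mem_normalizer_of_forall fun l hl => ?_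
  have hz : x * l * x⁻¹ ∈ Y := mem_sup_right ⟨l, hl, rfl⟩
  obtain ⟨hze, hzM⟩ := mem_pre.1 (hY e he he1 M hM hz)
  obtain ⟨y, hy, hye, hyz⟩ := H.covers hP (hE he) hM hzM
  have h1 : (x * l * x⁻¹)⁻¹ * y ∈ Y ⊓ centralizerPPrimeCore 2 e := by
    refine ⟨Y.mul_mem (Y.inv_mem hz) (mem_sup_left hy), mem_core.2 ⟨mul_mem (inv_mem hze) hye, ?_⟩⟩
    rw [show (⟨(x * l * x⁻¹)⁻¹ * y, mul_mem (inv_mem hze) hye⟩ : ↥(centralizer ({e} : Set G))) =
      ⟨_, hze⟩⁻¹ * ⟨y, hye⟩ from rfl, map_mul, map_inv, hyz, inv_mul_cancel]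
  rw [H.inf_core hP hE hEk le_sup_left hYE hY he, mem_bot, inv_mul_eq_one] at h1
  rw [h1]
  exact hy

end Cfsg.Agent.Goldschmidt.General.Layers
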